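import Mathlib

/-!
# Lengths of cokernels: generic lemmas
-/

set_option autoImplicit false
universe u v w

namespace Groth.Agent.Helper9.RegDim2

variable {R : Type u} [CommRing R]

/-- length of the cokernel of a linear map -/
noncomputable def cokerLen {X Z : Type*} [AddCommGroup X] [Module R X] [AddCommGroup Z] [Module R Z]
    (g : X →ₗ[R] Z) : ℕ∞ := Module.length R (Z ⧸ LinearMap.range g)

section
variable {X Y Z Z' W : Type*} [AddCommGroup X] [Module R X] [AddCommGroup Y] [Module R Y]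
  [AddCommGroup Z] [Module R Z] [AddCommGroup Z'] [Module R Z'] [AddCommGroup W] [Module R W]

/-- If `π : Z → Q` is surjective with kernel `range g`, then `cokerLen g = length Q`. -/
theorem cokerLen_eq_of_surjective (g : X →ₗ[R] Z) (π : Z →ₗ[R] W) (hπ : Function.Surjective π)
    (hk : LinearMap.ker π = LinearMap.range g) : cokerLen g = Module.length R W := by
  unfold cokerLen
  have e1 : (Z ⧸ LinearMap.range g) ≃ₗ[R] (Z ⧸ LinearMap.ker π) :=
    Submodule.quotEquivOfEq _ _ hk.symm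
  exact (e1.trans (π.quotKerEquivOfSurjective hπ)).length_eq

theorem cokerLen_equiv_comp (e : Z ≃ₗ[R] Z') (g : X →ₗ[R] Z) :
    cokerLen (e.toLinearMap ∘ₗ g) = cokerLen g := by
  apply cokerLen_eq_of_surjective (e.toLinearMap ∘ₗ g)
    ((LinearMap.range g).mkQ ∘ₗ e.symm.toLinearMap)
  · exact (Submodule.mkQ_surjective _).comp e.symm.surjective
  · ext z
    simp only [LinearMap.mem_ker, LinearMap.coe_comp, Function.comp_apply, LinearEquiv.coe_coe,
      Submodule.mkQ_apply, Submodule.Quotient.mk_eq_zero, LinearMap.mem_range]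
    constructor
    · rintro ⟨x, hx⟩
      exact ⟨x, by rw [hx]; simp⟩
    · rintro ⟨x, rfl⟩
      exact ⟨x, by simp⟩

theorem cokerLen_comp (α : X →ₗ[R] Y) (β : Y →ₗ[R] Z) (hβ : Function.Injective β) :
    cokerLen (β ∘ₗ α) = cokerLen α + cokerLen β := by
  unfold cokerLen
  have h1 : LinearMap.range α ≤ Submodule.comap β (LinearMap.range (β ∘ₗ α)) := by
    rintro _ ⟨x, rfl⟩
    exact ⟨x, rfl⟩
  have h2 : LinearMap.range (β ∘ₗ α) ≤ Submodule.comap LinearMap.id (LinearMap.range β) := by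
    rintro _ ⟨x, rfl⟩
    exact ⟨α x, rfl⟩
  let φ : (Y ⧸ LinearMap.range α) →ₗ[R] (Z ⧸ LinearMap.range (β ∘ₗ α)) :=
    Submodule.mapQ _ _ β h1
  let ψ : (Z ⧸ LinearMap.range (β ∘ₗ α)) →ₗ[R] (Z ⧸ LinearMap.range β) :=
    Submodule.mapQ _ _ LinearMap.id h2
  apply Module.length_eq_add_of_exact φ ψ
  · rw [← LinearMap.ker_eq_bot, LinearMap.ker_eq_bot']
    intro y hy
    obtain ⟨y, rfl⟩ := Submodule.Quotient.mk_surjective _ y
    have : φ (Submodule.Quotient.mk y) = Submodule.Quotient.mk (β y) := rfl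
    rw [this, Submodule.Quotient.mk_eq_zero] at hy
    obtain ⟨x, hx⟩ := hy
    rw [Submodule.Quotient.mk_eq_zero]
    exact ⟨x, hβ hx⟩
  · intro z
    obtain ⟨z, rfl⟩ := Submodule.Quotient.mk_surjective _ z
    exact ⟨Submodule.Quotient.mk z, rfl⟩
  · intro z
    obtain ⟨z, rfl⟩ := Submodule.Quotient.mk_surjective _ z
    constructor
    · intro hz
      have : ψ (Submodule.Quotient.mk z) = Submodule.Quotient.mk z := rfl
      rw [this, Submodule.Quotient.mk_eq_zero] at hz
      obtain ⟨y, rfl⟩ := hz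
      exact ⟨Submodule.Quotient.mk y, rfl⟩
    · rintro ⟨y, hy⟩
      obtain ⟨y, rfl⟩ := Submodule.Quotient.mk_surjective _ y
      rw [← hy]
      change Submodule.Quotient.mk (β y) = 0
      rw [Submodule.Quotient.mk_eq_zero]
      exact ⟨y, rfl⟩

theorem cokerLen_prodMap_id (g : X →ₗ[R] Z) :
    cokerLen ((LinearMap.id : W →ₗ[R] W).prodMap g) = cokerLen g := by
  apply cokerLen_eq_of_surjective _ ((LinearMap.range g).mkQ ∘ₗ LinearMap.snd R W Z)
  · exact (Submodule.mkQ_surjective _).comp LinearMap.snd_surjective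
  · ext ⟨w, z⟩
    simp only [LinearMap.mem_ker, LinearMap.coe_comp, Function.comp_apply, LinearMap.snd_apply,
      Submodule.mkQ_apply, Submodule.Quotient.mk_eq_zero, LinearMap.mem_range,
      LinearMap.prodMap_apply, LinearMap.id_apply, Prod.mk.injEq, Prod.exists]
    constructor
    · rintro ⟨x, hx⟩
      exact ⟨w, x, rfl, hx⟩
    · rintro ⟨_, x, _, hx⟩
      exact ⟨x, hx⟩

end

end Groth.Agent.Helper9.RegDim2
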