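import Mathlib
import Groth.Agent.Lib.Helper8.ABS24
import Groth.Agent.Lib.Helper8.RegularLocal

/-!
# A two-dimensional regular local ring is factorial
-/

set_option autoImplicit false
universe u

namespace Groth.Agent.Helper9.RegDim2

open IsLocalRing

theorem isDomain (A : Type u) [CommRing A] [IsRegularLocalRing A] : IsDomain A :=
  Groth.Agent.Helper8.RLR.isDomain A

theorem ufd (A : Type u) [CommRing A] [IsRegularLocalRing A] (hA : ringKrullDim A = 2) :
    UniqueFactorizationMonoid A := by
  have := isDomain A
  rw [UniqueFactorizationMonoid.iff_exists_prime_mem_of_isPrime]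
  intro I hI hIp
  -- key: every prime strictly between is principal
  have key : ∀ (p : Ideal A), p.IsPrime → p ≠ ⊥ → p ≠ maximalIdeal A → ∃ x ∈ p, Prime x := by
    intro p hp hp0 hpm
    have : IsReduced (A ⧸ p) := by
      have := (Ideal.Quotient.isDomain_iff_prime p).mpr hp
      infer_instance
    rcases Groth.Agent.Helper8.ABS.dim_two_reduced_quotient A hA p (le_maximalIdeal hp.ne_top)
      with h | h | ⟨f, -, hf0, hf⟩
    · exact absurd h hp0
    · exact absurd h hpm
    · refine ⟨f, hf ▸ Ideal.subset_span rfl, ?_⟩
      rw [← Ideal.span_singleton_prime hf0, ← hf]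
      exact hp
  by_cases hIm : I = maximalIdeal A
  · -- pick a nonzero a ∈ m and a minimal prime over it
    obtain ⟨a, haI, ha0⟩ : ∃ a ∈ I, a ≠ 0 := by
      by_contra h
      push Not at h
      exact hI ((Submodule.eq_bot_iff _).mpr h)
    obtain ⟨p, hpmin, hpI⟩ := Ideal.exists_minimalPrimes_le (I := Ideal.span {a}) (J := I)
      ((Ideal.span_singleton_le_iff_mem _).mpr haI)
    have hp : p.IsPrime := hpmin.1.1
    have hht : p.height ≤ 1 := Ideal.height_le_one_of_isPrincipal_of_mem_minimalPrimes _ p hpmin
    have hp0 : p ≠ ⊥ := by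
      rintro rfl
      have : a ∈ (⊥ : Ideal A) := hpmin.1.2 (Ideal.subset_span rfl)
      exact ha0 (by simpa using this)
    have hpm : p ≠ maximalIdeal A := by
      intro h
      have h2 : (maximalIdeal A).height = 2 := by
        have := IsLocalRing.maximalIdeal_height_eq_ringKrullDim (R := A)
        rw [hA] at this
        have h3 : ((maximalIdeal A).height : WithBot ℕ∞) = ((2 : ℕ∞) : WithBot ℕ∞) := this
        exact WithBot.coe_injective h3
      rw [h, h2] at hht
      norm_num at hht
    obtain ⟨x, hx, hxp⟩ := key p hp hp0 hpm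
    exact ⟨x, hpI hx, hxp⟩
  · exact key I hIp hI hIm

/-- relatively prime elements in a two-dimensional regular local ring: cancellation. -/
theorem dvd_of_isRelPrime (A : Type u) [CommRing A] [IsRegularLocalRing A] (hA : ringKrullDim A = 2)
    {h g x : A} (hrel : IsRelPrime h g) (hdvd : h ∣ g * x) : h ∣ x := by
  have := isDomain A
  have := ufd A hA
  exact hrel.dvd_of_dvd_mul_left hdvd

end Groth.Agent.Helper9.RegDim2
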